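import Cfsg.Agent.Lib.Spor.Ly.Model.Fast
import Cfsg.Agent.Lib.Spor.Ly.Model.Data

/-!
The five packed generators and their inverses are well formed.
-/

set_option autoImplicit false

namespace CfsgLib.Spor.Ly.Model

open CfsgLib.DCE CfsgLib.Spor.Ly.Five

theorem ok_one : okOneC 111 = true := by decide +kernel

theorem ok_one_ent : okEntC 111 (oneC 111) = true := by decide +kernel

theorem ok_gens : (List.range (2 * 5)).all (okGenC 111 G111) = true := by decide +kernel

/-- the generators of the model -/
theorem D111 : GenSet 111 5 G111 := GenSet.of_okC (by norm_num) ok_one ok_one_ent ok_gens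

end CfsgLib.Spor.Ly.Model
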