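import Cfsg.Agent.Lib.Spor.Ly.Model.Chain
import Cfsg.Agent.Lib.Spor.Ly.Model.Gens
import Cfsg.Agent.Lib.Spor.Ly.Model.ChainData2

/-!
A subgroup of order `2 ^ 8` in the 111-dimensional model of the Lyons group.
-/

set_option autoImplicit false

namespace CfsgLib.Spor.Ly.Model

open CfsgLib.DCE CfsgLib.Spor.Ly.Five

theorem len2 : ws2.length = 8 := by decide +kernel

theorem val2_0 : ((ws2.getD 0 []).all fun x => Nat.blt x (2 * 5)) = true ∧
    Nat.beq (evalC 111 G111 (ws2.getD 0 [])) (ps2 0) = true := by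
  decide +kernel

theorem step2_0 : okStep 111 2 0 ps2 v2_0 vs2_0 pw2_0 cj2_0 = true := by
  decide +kernel

theorem val2_1 : ((ws2.getD 1 []).all fun x => Nat.blt x (2 * 5)) = true ∧
    Nat.beq (evalC 111 G111 (ws2.getD 1 [])) (ps2 1) = true := by
  decide +kernel

theorem step2_1 : okStep 111 2 1 ps2 v2_1 vs2_1 pw2_1 cj2_1 = true := by
  decide +kernel

theorem val2_2 : ((ws2.getD 2 []).all fun x => Nat.blt x (2 * 5)) = true ∧
    Nat.beq (evalC 111 G111 (ws2.getD 2 [])) (ps2 2) = true := by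
  decide +kernel

theorem step2_2 : okStep 111 2 2 ps2 v2_2 vs2_2 pw2_2 cj2_2 = true := by
  decide +kernel

theorem val2_3 : ((ws2.getD 3 []).all fun x => Nat.blt x (2 * 5)) = true ∧
    Nat.beq (evalC 111 G111 (ws2.getD 3 [])) (ps2 3) = true := by
  decide +kernel

theorem step2_3 : okStep 111 2 3 ps2 v2_3 vs2_3 pw2_3 cj2_3 = true := by
  decide +kernel

theorem val2_4 : ((ws2.getD 4 []).all fun x => Nat.blt x (2 * 5)) = true ∧
    Nat.beq (evalC 111 G111 (ws2.getD 4 [])) (ps2 4) = true := by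
  decide +kernel

theorem step2_4 : okStep 111 2 4 ps2 v2_4 vs2_4 pw2_4 cj2_4 = true := by
  decide +kernel

theorem val2_5 : ((ws2.getD 5 []).all fun x => Nat.blt x (2 * 5)) = true ∧
    Nat.beq (evalC 111 G111 (ws2.getD 5 [])) (ps2 5) = true := by
  decide +kernel

theorem step2_5 : okStep 111 2 5 ps2 v2_5 vs2_5 pw2_5 cj2_5 = true := by
  decide +kernel

theorem val2_6 : ((ws2.getD 6 []).all fun x => Nat.blt x (2 * 5)) = true ∧
    Nat.beq (evalC 111 G111 (ws2.getD 6 [])) (ps2 6) = true := by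
  decide +kernel

theorem step2_6 : okStep 111 2 6 ps2 v2_6 vs2_6 pw2_6 cj2_6 = true := by
  decide +kernel

theorem val2_7 : ((ws2.getD 7 []).all fun x => Nat.blt x (2 * 5)) = true ∧
    Nat.beq (evalC 111 G111 (ws2.getD 7 [])) (ps2 7) = true := by
  decide +kernel

theorem step2_7 : okStep 111 2 7 ps2 v2_7 vs2_7 pw2_7 cj2_7 = true := by
  decide +kernel

/-- the elements -/
noncomputable def g2 (i : ℕ) : GL (Fin 111) (ZMod 5) := wv D111.gen (ws2.getD i [])

theorem isVal2 : ∀ i < 8, IsVal 111 (g2 i) (ps2 i) := by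
  intro i hi
  have key : ∀ j, ((ws2.getD j []).all fun x => Nat.blt x (2 * 5)) = true ∧
      Nat.beq (evalC 111 G111 (ws2.getD j [])) (ps2 j) = true → IsVal 111 (g2 j) (ps2 j) :=
    fun j h => Nat.eq_of_beq_eq_true h.2 ▸ isVal_wv D111 h.1
  interval_cases i
  · exact key _ val2_0
  · exact key _ val2_1
  · exact key _ val2_2
  · exact key _ val2_3
  · exact key _ val2_4
  · exact key _ val2_5
  · exact key _ val2_6
  · exact key _ val2_7

theorem card2 : Nat.card (chainSub g2 8) = 2 ^ 8 :=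
  chain_step D111 g2 ps2 (by norm_num) (fun j hj => isVal2 j (by omega)) step2_7
    (chain_step D111 g2 ps2 (by norm_num) (fun j hj => isVal2 j (by omega)) step2_6
    (chain_step D111 g2 ps2 (by norm_num) (fun j hj => isVal2 j (by omega)) step2_5
    (chain_step D111 g2 ps2 (by norm_num) (fun j hj => isVal2 j (by omega)) step2_4
    (chain_step D111 g2 ps2 (by norm_num) (fun j hj => isVal2 j (by omega)) step2_3
    (chain_step D111 g2 ps2 (by norm_num) (fun j hj => isVal2 j (by omega)) step2_2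
    (chain_step D111 g2 ps2 (by norm_num) (fun j hj => isVal2 j (by omega)) step2_1
    (chain_step D111 g2 ps2 (by norm_num) (fun j hj => isVal2 j (by omega)) step2_0
    ((chainSub_zero g2).trans (pow_zero 2).symm))))))))

end CfsgLib.Spor.Ly.Model
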