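import Cfsg.Agent.Lib.Spor.Ly.Model.Chain
import Cfsg.Agent.Lib.Spor.Ly.Model.Gens
import Cfsg.Agent.Lib.Spor.Ly.Model.ChainData3

/-!
A subgroup of order `3 ^ 7` in the 111-dimensional model of the Lyons group.
-/

set_option autoImplicit false

namespace CfsgLib.Spor.Ly.Model

open CfsgLib.DCE CfsgLib.Spor.Ly.Five

theorem len3 : ws3.length = 7 := by decide +kernel

theorem val3_0 : ((ws3.getD 0 []).all fun x => Nat.blt x (2 * 5)) = true ∧
    Nat.beq (evalC 111 G111 (ws3.getD 0 [])) (ps3 0) = true := by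
  decide +kernel

theorem step3_0 : okStep 111 3 0 ps3 v3_0 vs3_0 pw3_0 cj3_0 = true := by
  decide +kernel

theorem val3_1 : ((ws3.getD 1 []).all fun x => Nat.blt x (2 * 5)) = true ∧
    Nat.beq (evalC 111 G111 (ws3.getD 1 [])) (ps3 1) = true := by
  decide +kernel

theorem step3_1 : okStep 111 3 1 ps3 v3_1 vs3_1 pw3_1 cj3_1 = true := by
  decide +kernel

theorem val3_2 : ((ws3.getD 2 []).all fun x => Nat.blt x (2 * 5)) = true ∧
    Nat.beq (evalC 111 G111 (ws3.getD 2 [])) (ps3 2) = true := by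
  decide +kernel

theorem step3_2 : okStep 111 3 2 ps3 v3_2 vs3_2 pw3_2 cj3_2 = true := by
  decide +kernel

theorem val3_3 : ((ws3.getD 3 []).all fun x => Nat.blt x (2 * 5)) = true ∧
    Nat.beq (evalC 111 G111 (ws3.getD 3 [])) (ps3 3) = true := by
  decide +kernel

theorem step3_3 : okStep 111 3 3 ps3 v3_3 vs3_3 pw3_3 cj3_3 = true := by
  decide +kernel

theorem val3_4 : ((ws3.getD 4 []).all fun x => Nat.blt x (2 * 5)) = true ∧
    Nat.beq (evalC 111 G111 (ws3.getD 4 [])) (ps3 4) = true := by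
  decide +kernel

theorem step3_4 : okStep 111 3 4 ps3 v3_4 vs3_4 pw3_4 cj3_4 = true := by
  decide +kernel

theorem val3_5 : ((ws3.getD 5 []).all fun x => Nat.blt x (2 * 5)) = true ∧
    Nat.beq (evalC 111 G111 (ws3.getD 5 [])) (ps3 5) = true := by
  decide +kernel

theorem step3_5 : okStep 111 3 5 ps3 v3_5 vs3_5 pw3_5 cj3_5 = true := by
  decide +kernel

theorem val3_6 : ((ws3.getD 6 []).all fun x => Nat.blt x (2 * 5)) = true ∧
    Nat.beq (evalC 111 G111 (ws3.getD 6 [])) (ps3 6) = true := by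
  decide +kernel

theorem step3_6 : okStep 111 3 6 ps3 v3_6 vs3_6 pw3_6 cj3_6 = true := by
  decide +kernel

/-- the elements -/
noncomputable def g3 (i : ℕ) : GL (Fin 111) (ZMod 5) := wv D111.gen (ws3.getD i [])

theorem isVal3 : ∀ i < 7, IsVal 111 (g3 i) (ps3 i) := by
  intro i hi
  have key : ∀ j, ((ws3.getD j []).all fun x => Nat.blt x (2 * 5)) = true ∧
      Nat.beq (evalC 111 G111 (ws3.getD j [])) (ps3 j) = true → IsVal 111 (g3 j) (ps3 j) :=
    fun j h => Nat.eq_of_beq_eq_true h.2 ▸ isVal_wv D111 h.1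
  interval_cases i
  · exact key _ val3_0
  · exact key _ val3_1
  · exact key _ val3_2
  · exact key _ val3_3
  · exact key _ val3_4
  · exact key _ val3_5
  · exact key _ val3_6

theorem card3 : Nat.card (chainSub g3 7) = 3 ^ 7 :=
  chain_step D111 g3 ps3 (by norm_num) (fun j hj => isVal3 j (by omega)) step3_6
    (chain_step D111 g3 ps3 (by norm_num) (fun j hj => isVal3 j (by omega)) step3_5
    (chain_step D111 g3 ps3 (by norm_num) (fun j hj => isVal3 j (by omega)) step3_4
    (chain_step D111 g3 ps3 (by norm_num) (fun j hj => isVal3 j (by omega)) step3_3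
    (chain_step D111 g3 ps3 (by norm_num) (fun j hj => isVal3 j (by omega)) step3_2
    (chain_step D111 g3 ps3 (by norm_num) (fun j hj => isVal3 j (by omega)) step3_1
    (chain_step D111 g3 ps3 (by norm_num) (fun j hj => isVal3 j (by omega)) step3_0
    ((chainSub_zero g3).trans (pow_zero 3).symm)))))))

end CfsgLib.Spor.Ly.Model
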