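import Cfsg.Agent.Lib.Spor.Ly.Model.Chain
import Cfsg.Agent.Lib.Spor.Ly.Model.Gens
import Cfsg.Agent.Lib.Spor.Ly.Model.ChainData5

/-!
A subgroup of order `5 ^ 6` in the 111-dimensional model of the Lyons group.
-/

set_option autoImplicit false

namespace CfsgLib.Spor.Ly.Model

open CfsgLib.DCE CfsgLib.Spor.Ly.Five

theorem len5 : ws5.length = 6 := by decide +kernel

theorem val5_0 : ((ws5.getD 0 []).all fun x => Nat.blt x (2 * 5)) = true ∧
    Nat.beq (evalC 111 G111 (ws5.getD 0 [])) (ps5 0) = true := by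
  decide +kernel

theorem step5_0 : okStep 111 5 0 ps5 v5_0 vs5_0 pw5_0 cj5_0 = true := by
  decide +kernel

theorem val5_1 : ((ws5.getD 1 []).all fun x => Nat.blt x (2 * 5)) = true ∧
    Nat.beq (evalC 111 G111 (ws5.getD 1 [])) (ps5 1) = true := by
  decide +kernel

theorem step5_1 : okStep 111 5 1 ps5 v5_1 vs5_1 pw5_1 cj5_1 = true := by
  decide +kernel

theorem val5_2 : ((ws5.getD 2 []).all fun x => Nat.blt x (2 * 5)) = true ∧
    Nat.beq (evalC 111 G111 (ws5.getD 2 [])) (ps5 2) = true := by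
  decide +kernel

theorem step5_2 : okStep 111 5 2 ps5 v5_2 vs5_2 pw5_2 cj5_2 = true := by
  decide +kernel

theorem val5_3 : ((ws5.getD 3 []).all fun x => Nat.blt x (2 * 5)) = true ∧
    Nat.beq (evalC 111 G111 (ws5.getD 3 [])) (ps5 3) = true := by
  decide +kernel

theorem step5_3 : okStep 111 5 3 ps5 v5_3 vs5_3 pw5_3 cj5_3 = true := by
  decide +kernel

theorem val5_4 : ((ws5.getD 4 []).all fun x => Nat.blt x (2 * 5)) = true ∧
    Nat.beq (evalC 111 G111 (ws5.getD 4 [])) (ps5 4) = true := by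
  decide +kernel

theorem step5_4 : okStep 111 5 4 ps5 v5_4 vs5_4 pw5_4 cj5_4 = true := by
  decide +kernel

theorem val5_5 : ((ws5.getD 5 []).all fun x => Nat.blt x (2 * 5)) = true ∧
    Nat.beq (evalC 111 G111 (ws5.getD 5 [])) (ps5 5) = true := by
  decide +kernel

theorem step5_5 : okStep 111 5 5 ps5 v5_5 vs5_5 pw5_5 cj5_5 = true := by
  decide +kernel

/-- the elements -/
noncomputable def g5 (i : ℕ) : GL (Fin 111) (ZMod 5) := wv D111.gen (ws5.getD i [])

theorem isVal5 : ∀ i < 6, IsVal 111 (g5 i) (ps5 i) := by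
  intro i hi
  have key : ∀ j, ((ws5.getD j []).all fun x => Nat.blt x (2 * 5)) = true ∧
      Nat.beq (evalC 111 G111 (ws5.getD j [])) (ps5 j) = true → IsVal 111 (g5 j) (ps5 j) :=
    fun j h => Nat.eq_of_beq_eq_true h.2 ▸ isVal_wv D111 h.1
  interval_cases i
  · exact key _ val5_0
  · exact key _ val5_1
  · exact key _ val5_2
  · exact key _ val5_3
  · exact key _ val5_4
  · exact key _ val5_5

theorem card5 : Nat.card (chainSub g5 6) = 5 ^ 6 :=
  chain_step D111 g5 ps5 (by norm_num) (fun j hj => isVal5 j (by omega)) step5_5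
    (chain_step D111 g5 ps5 (by norm_num) (fun j hj => isVal5 j (by omega)) step5_4
    (chain_step D111 g5 ps5 (by norm_num) (fun j hj => isVal5 j (by omega)) step5_3
    (chain_step D111 g5 ps5 (by norm_num) (fun j hj => isVal5 j (by omega)) step5_2
    (chain_step D111 g5 ps5 (by norm_num) (fun j hj => isVal5 j (by omega)) step5_1
    (chain_step D111 g5 ps5 (by norm_num) (fun j hj => isVal5 j (by omega)) step5_0
    ((chainSub_zero g5).trans (pow_zero 5).symm))))))

end CfsgLib.Spor.Ly.Model
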