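import Cfsg.Agent.Lib.Spor.Ly.Model.Gens

/-!
Elements of the orders 67, 37, 31, 11 and 7 in the 111-dimensional model of the Lyons group.
-/

set_option autoImplicit false

namespace CfsgLib.Spor.Ly.Model

open CfsgLib.DCE CfsgLib.Spor.Ly.Five

/-- the word -/
def ow67 : List Nat := [8, 6, 4, 6, 0]

theorem ord67 : (ow67.all fun x => Nat.blt x (2 * 5)) = true ∧
    Nat.beq (powC 111 (evalC 111 G111 ow67) 67) (oneC 111) = true ∧
    Nat.beq (lane 16 (111 * 0 + 0) (evalC 111 G111 ow67)) (lane 16 (111 * 0 + 0) (oneC 111)) = false := by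
  decide +kernel

theorem orderOf67 : orderOf (wv D111.gen ow67) = 67 := by
  haveI : Fact (Nat.Prime 67) := ⟨by norm_num⟩
  have hv := isVal_wv D111 ord67.1
  exact orderOf_eq_prime ((hv.pow D111 67).congr (isVal_one D111) ord67.2.1)
    (IsVal.ne (by norm_num) (by norm_num) hv (isVal_one D111) ord67.2.2)

/-- the word -/
def ow37 : List Nat := [6, 2, 4, 8, 4, 0, 6, 8, 0]

theorem ord37 : (ow37.all fun x => Nat.blt x (2 * 5)) = true ∧
    Nat.beq (powC 111 (evalC 111 G111 ow37) 37) (oneC 111) = true ∧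
    Nat.beq (lane 16 (111 * 0 + 1) (evalC 111 G111 ow37)) (lane 16 (111 * 0 + 1) (oneC 111)) = false := by
  decide +kernel

theorem orderOf37 : orderOf (wv D111.gen ow37) = 37 := by
  haveI : Fact (Nat.Prime 37) := ⟨by norm_num⟩
  have hv := isVal_wv D111 ord37.1
  exact orderOf_eq_prime ((hv.pow D111 37).congr (isVal_one D111) ord37.2.1)
    (IsVal.ne (by norm_num) (by norm_num) hv (isVal_one D111) ord37.2.2)

/-- the word -/
def ow31 : List Nat := [0, 4, 8, 8, 8, 6, 2, 2, 8, 2]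

theorem ord31 : (ow31.all fun x => Nat.blt x (2 * 5)) = true ∧
    Nat.beq (powC 111 (evalC 111 G111 ow31) 31) (oneC 111) = true ∧
    Nat.beq (lane 16 (111 * 0 + 0) (evalC 111 G111 ow31)) (lane 16 (111 * 0 + 0) (oneC 111)) = false := by
  decide +kernel

theorem orderOf31 : orderOf (wv D111.gen ow31) = 31 := by
  haveI : Fact (Nat.Prime 31) := ⟨by norm_num⟩
  have hv := isVal_wv D111 ord31.1
  exact orderOf_eq_prime ((hv.pow D111 31).congr (isVal_one D111) ord31.2.1)
    (IsVal.ne (by norm_num) (by norm_num) hv (isVal_one D111) ord31.2.2)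

/-- the word -/
def ow11 : List Nat := [2, 2, 6, 4, 0, 6, 8, 0, 2, 2, 6, 4, 0, 6, 8, 0]

theorem ord11 : (ow11.all fun x => Nat.blt x (2 * 5)) = true ∧
    Nat.beq (powC 111 (evalC 111 G111 ow11) 11) (oneC 111) = true ∧
    Nat.beq (lane 16 (111 * 0 + 2) (evalC 111 G111 ow11)) (lane 16 (111 * 0 + 2) (oneC 111)) = false := by
  decide +kernel

theorem orderOf11 : orderOf (wv D111.gen ow11) = 11 := by
  haveI : Fact (Nat.Prime 11) := ⟨by norm_num⟩
  have hv := isVal_wv D111 ord11.1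
  exact orderOf_eq_prime ((hv.pow D111 11).congr (isVal_one D111) ord11.2.1)
    (IsVal.ne (by norm_num) (by norm_num) hv (isVal_one D111) ord11.2.2)

/-- the word -/
def ow7 : List Nat := [6, 4, 0, 8, 8, 8, 8, 4, 6, 4, 0, 8, 8, 8, 8, 4, 6, 4, 0, 8, 8, 8, 8, 4]

theorem ord7 : (ow7.all fun x => Nat.blt x (2 * 5)) = true ∧
    Nat.beq (powC 111 (evalC 111 G111 ow7) 7) (oneC 111) = true ∧
    Nat.beq (lane 16 (111 * 0 + 0) (evalC 111 G111 ow7)) (lane 16 (111 * 0 + 0) (oneC 111)) = false := by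
  decide +kernel

theorem orderOf7 : orderOf (wv D111.gen ow7) = 7 := by
  haveI : Fact (Nat.Prime 7) := ⟨by norm_num⟩
  have hv := isVal_wv D111 ord7.1
  exact orderOf_eq_prime ((hv.pow D111 7).congr (isVal_one D111) ord7.2.1)
    (IsVal.ne (by norm_num) (by norm_num) hv (isVal_one D111) ord7.2.2)

end CfsgLib.Spor.Ly.Model
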