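import Cfsg.Agent.Lib.Spor.Ly.Model.Rep111
import Cfsg.Agent.Lib.Spor.Ly.Model.Orders
import Cfsg.Agent.Lib.Spor.Ly.Model.Chain2
import Cfsg.Agent.Lib.Spor.Ly.Model.Chain3
import Cfsg.Agent.Lib.Spor.Ly.Model.Chain5

/-!
The order of the presented Lyons group is divisible by the order of the simple group of Lyons.
-/

set_option autoImplicit false

namespace CfsgLib.Spor.Ly

open CfsgLib.DCE CfsgLib.Spor.Ly.Model

theorem dvd_card_of_orderOf {q : ℕ} (w : List ℕ) (h : orderOf (wv D111.gen w) = q) :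
    q ∣ Nat.card GLy := by
  rw [← h, ← rep111_wv]
  exact dvd_trans (orderOf_map_dvd rep111 _) (orderOf_dvd_natCard _)

theorem ly_card_dvd : 51765179004000000 ∣ Nat.card GLy := by
  have h2 := dvd_card_range D111 g2 rep111 (k := 8) (fun j _ => ⟨_, rep111_wv _⟩) card2
  have h3 := dvd_card_range D111 g3 rep111 (k := 7) (fun j _ => ⟨_, rep111_wv _⟩) card3
  have h5 := dvd_card_range D111 g5 rep111 (k := 6) (fun j _ => ⟨_, rep111_wv _⟩) card5
  have h67 := dvd_card_of_orderOf _ orderOf67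
  have h37 := dvd_card_of_orderOf _ orderOf37
  have h31 := dvd_card_of_orderOf _ orderOf31
  have h11 := dvd_card_of_orderOf _ orderOf11
  have h7 := dvd_card_of_orderOf _ orderOf7
  rw [show 51765179004000000 = 2 ^ 8 * 3 ^ 7 * 5 ^ 6 * 7 * 11 * 31 * 37 * 67 by norm_num]
  exact Nat.Coprime.mul_dvd_of_dvd_of_dvd (by norm_num) (Nat.Coprime.mul_dvd_of_dvd_of_dvd (by norm_num)
    (Nat.Coprime.mul_dvd_of_dvd_of_dvd (by norm_num) (Nat.Coprime.mul_dvd_of_dvd_of_dvd (by norm_num)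
    (Nat.Coprime.mul_dvd_of_dvd_of_dvd (by norm_num) (Nat.Coprime.mul_dvd_of_dvd_of_dvd (by norm_num)
    (Nat.Coprime.mul_dvd_of_dvd_of_dvd (by norm_num) h2 h3) h5) h7) h11) h31) h37) h67

end CfsgLib.Spor.Ly
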