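import Cfsg.Agent.Lib.Spor.Ly.Model.Fast

/-!
Chains of subgroups of prime power order in a group of packed matrices, from certificates: the
powers and conjugates of each element are products of earlier elements, and a set of vectors is
stable under the earlier elements but not under the new one.
-/

set_option autoImplicit false

namespace CfsgLib.Spor.Ly.Model

open Matrix CfsgLib.DCE CfsgLib.Spor.Ly CfsgLib.Spor.Ly.Five

/-- a product of some of the listed matrices -/
def prodI (n : ℕ) (P : ℕ → ℕ) : List ℕ → ℕ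
  | [] => oneC n
  | x :: l => mulC n (P x) (prodI n P l)

/-- step `i` of a chain -/
def okStep (n q i : ℕ) (P : ℕ → ℕ) (V : ℕ) (S pw : List ℕ) (cj : List (List ℕ)) : Bool :=
  (okVec n V && S.all (okVec n)) && S.contains V &&
    ((List.range i).all fun j => S.all fun u => S.contains (vmulC n u (P j))) &&
    !(S.contains (vmulC n V (P i))) &&
    (pw.all fun x => Nat.blt x i) && Nat.beq (powC n (P i) q) (prodI n P pw) &&
    ((List.range i).all fun j => ((cj.getD j []).all fun x => Nat.blt x i) &&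
      Nat.beq (mulC n (P j) (P i)) (mulC n (P i) (prodI n P (cj.getD j []))))

variable {n m : ℕ} {G : List ℕ} (D : GenSet n m G) (g : ℕ → GL (Fin n) (ZMod 5)) (P : ℕ → ℕ)

include D in
theorem isVal_prodI {i : ℕ} (hP : ∀ j < i, IsVal n (g j) (P j)) :
    ∀ l : List ℕ, (∀ x ∈ l, x < i) → IsVal n (l.map g).prod (prodI n P l)
  | [], _ => isVal_one D
  | x :: l, h => by
    rw [List.map_cons, List.prod_cons]
    exact (hP x (h x (List.mem_cons_self ..))).mul D.hn
      (isVal_prodI hP l fun y hy => h y (List.mem_cons_of_mem _ hy))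

/-- the subgroup generated by the first `i` elements -/
def chainSub (i : ℕ) : Subgroup (GL (Fin n) (ZMod 5)) := Subgroup.closure (g '' Set.Iio i)

theorem prod_mem_chainSub {i : ℕ} (l : List ℕ) (h : ∀ x ∈ l, x < i) :
    (l.map g).prod ∈ chainSub g i :=
  Subgroup.list_prod_mem _ fun y hy => by
    obtain ⟨x, hx, rfl⟩ := List.mem_map.1 hy
    exact Subgroup.subset_closure ⟨x, h x hx, rfl⟩

theorem mem_normalizer_of_conj_mem {Γ : Type*} [Group Γ] [Finite Γ] {s : Set Γ} {x : Γ}
    (h : ∀ y ∈ s, x⁻¹ * y * x ∈ Subgroup.closure s) :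
    x ∈ Subgroup.normalizer (Subgroup.closure s : Set Γ) := by
  set H := Subgroup.closure s
  have hle : H.map (MulAut.conj x⁻¹).toMonoidHom ≤ H := by
    rw [MonoidHom.map_closure, Subgroup.closure_le]
    rintro _ ⟨y, hy, rfl⟩
    simpa using h y hy
  have he : H.map (MulAut.conj x⁻¹).toMonoidHom = H :=
    Subgroup.eq_of_le_of_card_ge hle
      (le_of_eq (Subgroup.card_map_of_injective (MulEquiv.injective _)).symm)
  rw [← inv_mem_iff (H := Subgroup.normalizer (H : Set Γ)),
    Subgroup.mem_normalizer_iff_map_conj_eq]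
  exact he

theorem exists_card_mul {Γ : Type*} [Group Γ] [Finite Γ] {q : ℕ} (hq : q.Prime) {H : Subgroup Γ}
    {x : Γ} (hn : x ∈ Subgroup.normalizer (H : Set Γ)) (hx : x ∉ H) (hxq : x ^ q ∈ H) :
    ∃ K : Subgroup Γ, H ≤ K ∧ x ∈ K ∧ Nat.card K = q * Nat.card H := by
  haveI := Fact.mk hq
  let N := Subgroup.normalizer (H : Set Γ)
  let f := QuotientGroup.mk' (H.subgroupOf N)
  let xN : N := ⟨x, hn⟩
  have ho : orderOf (f xN) = q := by
    refine orderOf_eq_prime ?_ ?_
    · rw [← map_pow, QuotientGroup.mk'_apply, QuotientGroup.eq_one_iff, Subgroup.mem_subgroupOf]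
      exact hxq
    · rw [QuotientGroup.mk'_apply, ne_eq, QuotientGroup.eq_one_iff, Subgroup.mem_subgroupOf]
      exact hx
  let Z := Subgroup.zpowers (f xN)
  have hc : Nat.card (Z.comap f) = q * Nat.card H := by
    have h1 := Subgroup.card_mul_index (Z.comap f)
    rw [Subgroup.index_comap_of_surjective _ (QuotientGroup.mk'_surjective _),
      Subgroup.card_eq_card_quotient_mul_card_subgroup (H.subgroupOf N), ← Z.card_mul_index,
      Nat.card_zpowers, ho,
      Nat.card_congr (Subgroup.subgroupOfEquivOfLe (Subgroup.le_normalizer : H ≤ N)).toEquiv] at h1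
    refine Nat.eq_of_mul_eq_mul_right (Nat.pos_of_ne_zero Z.index_ne_zero_of_finite) ?_
    rw [h1]; ring
  refine ⟨(Z.comap f).map N.subtype, fun y hy => ?_, ⟨xN, ?_, rfl⟩, ?_⟩
  · refine ⟨⟨y, Subgroup.le_normalizer hy⟩, ?_, rfl⟩
    show f _ ∈ Z
    rw [show f ⟨y, Subgroup.le_normalizer hy⟩ = 1 from
      (QuotientGroup.eq_one_iff _).2 (Subgroup.mem_subgroupOf.2 hy)]
    exact Z.one_mem
  · exact Subgroup.mem_zpowers _
  · rw [Subgroup.card_map_of_injective N.subtype_injective, hc]

include D in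
theorem chain_step {q i : ℕ} (hq : q.Prime) (hP : ∀ j ≤ i, IsVal n (g j) (P j))
    {V : ℕ} {S pw : List ℕ} {cj : List (List ℕ)} (h : okStep n q i P V S pw cj = true)
    (hc : Nat.card (chainSub g i) = q ^ i) : Nat.card (chainSub g (i + 1)) = q ^ (i + 1) := by
  simp only [okStep, Bool.and_eq_true, Bool.not_eq_true', List.all_eq_true, List.mem_range,
    Nat.blt_eq] at h
  obtain ⟨⟨⟨⟨⟨⟨⟨hV, hS⟩, hVS⟩, hcl⟩, hout⟩, hpw⟩, hpow⟩, hcj⟩ := h
  have hV' := okVec_spec hV
  have hS' : ∀ u ∈ S, Vec n u := fun u hu => okVec_spec (hS u hu)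
  have hxi := hP i le_rfl
  have hlt : ∀ j < i, IsVal n (g j) (P j) := fun j hj => hP j (le_of_lt hj)
  have hx : g i ∉ chainSub g i := by
    intro hmem
    rw [← Subgroup.mem_toSubmonoid, chainSub, Subgroup.closure_toSubmonoid_of_finite] at hmem
    have key : ∀ a, a ∈ Submonoid.closure (g '' Set.Iio i) →
        ∀ u ∈ S, ∃ w ∈ S, toV n w = Matrix.vecMul (toV n u)
          (a : GL (Fin n) (ZMod 5)).1 := by
      intro a ha
      induction ha using Submonoid.closure_induction with
      | mem y hy =>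
        obtain ⟨j, hj, rfl⟩ := hy
        intro u hu
        refine ⟨_, List.contains_iff_mem.1 (hcl j hj u hu), ?_⟩
        rw [(hlt j hj).2, (Vec.vmul D.hn (hS' u hu) (hlt j hj).1).2]
      | one => exact fun u hu => ⟨u, hu, by simp⟩
      | mul y z _ _ iy iz =>
        intro u hu
        obtain ⟨w, hw, ew⟩ := iy u hu
        obtain ⟨w', hw', ew'⟩ := iz w hw
        exact ⟨w', hw', by rw [ew', ew, Matrix.vecMul_vecMul, Units.val_mul]⟩
    obtain ⟨w, hw, ew⟩ := key _ hmem V (List.contains_iff_mem.1 hVS)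
    have hv := Vec.vmul D.hn hV' hxi.1
    rw [hxi.2, ← hv.2] at ew
    rw [Vec.ext (hS' w hw) hv.1 ew] at hw
    rw [List.contains_iff_mem.2 hw] at hout
    exact Bool.noConfusion hout
  have hxq : g i ^ q ∈ chainSub g i := by
    rw [(hxi.pow D q).congr (isVal_prodI D g P hlt pw hpw) hpow]
    exact prod_mem_chainSub g pw hpw
  have hn : g i ∈ Subgroup.normalizer (chainSub g i : Set (GL (Fin n) (ZMod 5))) := by
    refine mem_normalizer_of_conj_mem ?_
    rintro _ ⟨j, hj, rfl⟩
    obtain ⟨hl, he⟩ := hcj j hj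
    have e := ((hlt j hj).mul D.hn hxi).congr
      (hxi.mul D.hn (isVal_prodI D g P hlt _ hl)) he
    rw [mul_assoc, e, inv_mul_cancel_left]
    exact prod_mem_chainSub g _ hl
  obtain ⟨K, hK, hxK, hcK⟩ := exists_card_mul hq hn hx hxq
  have hle : chainSub g (i + 1) ≤ K := by
    rw [chainSub, Subgroup.closure_le]
    rintro _ ⟨j, hj, rfl⟩
    rcases Nat.lt_succ_iff_lt_or_eq.1 hj with hj | rfl
    · exact hK (Subgroup.subset_closure ⟨j, hj, rfl⟩)
    · exact hxK
  have hmono : chainSub g i ≤ chainSub g (i + 1) :=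
    Subgroup.closure_mono (Set.image_mono (Set.Iio_subset_Iio (Nat.le_succ i)))
  have hne : chainSub g i ≠ chainSub g (i + 1) := fun e =>
    hx (e ▸ Subgroup.subset_closure ⟨i, Nat.lt_succ_self i, rfl⟩)
  have hd : Nat.card (chainSub g (i + 1)) ∣ q ^ (i + 1) := by
    have := Subgroup.card_dvd_of_le hle
    rwa [hcK, hc, ← pow_succ'] at this
  obtain ⟨a, ha, e⟩ := (Nat.dvd_prime_pow hq).1 hd
  rcases Nat.lt_or_ge a (i + 1) with h' | h'
  · exact absurd (Subgroup.eq_of_le_of_card_ge hmono (by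
      rw [hc, e]; exact Nat.pow_le_pow_right hq.pos (by omega))) hne
  · rw [e, le_antisymm ha h']

theorem chainSub_zero : Nat.card (chainSub g 0) = 1 := by
  have : g '' Set.Iio 0 = ∅ := by simp
  rw [chainSub, this, Subgroup.closure_empty, Subgroup.card_bot]

include D in
theorem dvd_card_range {Γ : Type*} [Group Γ] (φ : Γ →* GL (Fin n) (ZMod 5)) {q k : ℕ}
    (hr : ∀ j < k, g j ∈ φ.range) (hc : Nat.card (chainSub g k) = q ^ k) :
    q ^ k ∣ Nat.card Γ := by
  rw [← hc]
  refine dvd_trans (Subgroup.card_dvd_of_le (?_ : chainSub g k ≤ φ.range)) (Subgroup.card_range_dvd φ)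
  rw [chainSub, Subgroup.closure_le]
  rintro _ ⟨j, hj, rfl⟩
  exact hr j hj

end CfsgLib.Spor.Ly.Model
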