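import Cfsg.Agent.Lib.Spor.Ly.Rep
import Cfsg.Agent.Lib.Spor.Ly.LineAct

/-!
Faster forms of the packed operations over the field of five elements for large matrices: masks in
closed form and checks that go row by row. Values of packed matrices as invertible matrices.
-/

set_option autoImplicit false

namespace CfsgLib.Spor.Ly.Model

open Matrix CfsgLib.DCE CfsgLib.Spor.Ly CfsgLib.Spor.Ly.Five

/-- a mask in closed form -/
def mskC (w c m : ℕ) : ℕ := c * ((2 ^ (w * m) - 1) / (2 ^ w - 1))

theorem msk_mul (w c : ℕ) : ∀ m, msk w c m * (2 ^ w - 1) = c * (2 ^ (w * m) - 1)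
  | 0 => by simp [msk]
  | m + 1 => by
    rw [msk, add_mul, mul_assoc, msk_mul w c m, show w * (m + 1) = w + w * m by ring, pow_add]
    obtain ⟨a, ha⟩ := Nat.exists_eq_succ_of_ne_zero (Nat.two_pow_pos w).ne'
    obtain ⟨b, hb⟩ := Nat.exists_eq_succ_of_ne_zero (Nat.two_pow_pos (w * m)).ne'
    have e : (a + 1) * (b + 1) - 1 = a + (a + 1) * b := by
      have : (a + 1) * (b + 1) = a + (a + 1) * b + 1 := by ring
      omega
    rw [ha, hb]
    simp only [Nat.succ_eq_add_one, Nat.add_sub_cancel]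
    rw [e]
    ring

theorem msk_eq {w : ℕ} (hw : 0 < w) (c m : ℕ) : msk w c m = mskC w c m := by
  have h2 : 2 ≤ 2 ^ w := Nat.le_self_pow (by omega) 2
  have hc : msk w c m = c * msk w 1 m := by
    induction m generalizing c with
    | zero => simp [msk]
    | succ m ih =>
      rw [msk, msk, ih]
      ring
  have h1 := msk_mul w 1 m
  rw [one_mul] at h1
  rw [mskC, hc, ← h1, Nat.mul_div_cancel _ (by omega)]

/-- one folding step with given masks -/
def foldC (A B x : ℕ) : ℕ := (x &&& A) + ((x >>> 4) &&& B)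

/-- the reduction with given masks -/
def redM (A B C x : ℕ) : ℕ :=
  let y := foldC A B (foldC A B (foldC A B x))
  y - 5 * (((13 * y) >>> 6) &&& C)

/-- the reduction of all lanes -/
def redC (m x : ℕ) : ℕ := redM (mskC 16 15 m) (mskC 16 4095 m) (mskC 16 1023 m) x

theorem redC_eq (m x : ℕ) : redC m x = red m x := by
  simp only [redC, redM, red, foldC, fold, msk_eq (by norm_num : 0 < 16)]

/-- the first `k` columns of `P` times rows of `Q`, with given mask and row modulus -/
def mulAuxC (n msk₀ md P Q : ℕ) : ℕ → ℕ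
  | 0 => 0
  | k + 1 => mulAuxC n msk₀ md P Q k +
      ((P >>> (16 * k)) &&& msk₀) * ((Q >>> (16 * n * k)) % md)

/-- the product -/
def mulC (n P Q : ℕ) : ℕ :=
  redC (n * n) (mulAuxC n (mskC (16 * n) 65535 n) (2 ^ (16 * n)) P Q n)

theorem mulC_eq (n P Q : ℕ) : mulC n P Q = mulF n P Q := by
  have : ∀ k, mulAuxC n (mskC (16 * n) 65535 n) (2 ^ (16 * n)) P Q k = mulAux n P Q k := by
    intro k
    induction k with
    | zero => rfl
    | succ k ih =>
      rcases Nat.eq_zero_or_pos n with rfl | hn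
      · rw [mulAuxC, mulAux, ih, colRow]
        simp [mskC, msk]
      · rw [mulAuxC, mulAux, ih, colRow, msk_eq (by omega)]
  rw [mulC, this, redC_eq, mulF]

/-- the identity -/
def oneC (n : ℕ) : ℕ := mskC (16 * (n + 1)) 1 n

theorem oneC_eq (n : ℕ) : oneC n = oneF n := (msk_eq (by omega) _ _).symm

/-- the value of a word -/
def evalC (n : ℕ) (G : List ℕ) : List ℕ → ℕ
  | [] => oneC n
  | x :: w => mulC n (letM G x) (evalC n G w)

theorem evalC_eq (n : ℕ) (G : List ℕ) : ∀ w, evalC n G w = evalF n G w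
  | [] => oneC_eq n
  | x :: w => by rw [evalC, evalF, mulC_eq, evalC_eq n G w]

/-- row `i` -/
def rowC (n i P : ℕ) : ℕ := (P >>> (16 * n * i)) % 2 ^ (16 * n)

theorem lane_rowC {n i j P : ℕ} (hj : j < n) :
    lane 16 j (rowC n i P) = lane 16 (n * i + j) P := by
  have h2 : rowC n i P = pk 16 (fun j => lane 16 (n * i + j) P) n := by
    rw [rowC, mod_eq_pk, Nat.shiftRight_eq_div_pow]
    refine pk_congr fun j _ => ?_
    rw [lane, lane, Nat.div_div_eq_div_mul, ← pow_add,
      show 16 * n * i + 16 * j = 16 * (n * i + j) by ring]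
  rw [h2]
  exact lane_pk _ _ (fun s _ => Nat.mod_lt _ (Nat.two_pow_pos _)) j hj

/-- the entries lie in `0, …, 4`, checked row by row -/
def okEntC (n P : ℕ) : Bool :=
  (List.range n).all fun i => (List.range n).all fun j => Nat.blt (lane 16 j (rowC n i P)) 5

theorem okEntC_spec {n P : ℕ} (h : okEntC n P = true) : Small n P := by
  simp only [okEntC, List.all_eq_true, List.mem_range, Nat.blt_eq] at h
  intro t ht
  have hn0 : 0 < n := Nat.pos_of_ne_zero fun e => by simp [e] at ht
  have := h (t / n) (Nat.div_lt_of_lt_mul ht) (t % n) (Nat.mod_lt t hn0)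
  rwa [lane_rowC (Nat.mod_lt t hn0), Nat.div_add_mod] at this

/-- the packed identity is the identity, checked row by row -/
def okOneC (n : ℕ) : Bool :=
  (List.range n).all fun i => (List.range n).all fun j =>
    Nat.beq (lane 16 j (rowC n i (oneC n))) (bif i == j then 1 else 0)

theorem okOneC_spec {n : ℕ} (h : okOneC n = true) : toM n (oneF n) = 1 := by
  simp only [okOneC, List.all_eq_true, List.mem_range, Nat.beq_eq] at h
  ext i j
  have e := h i i.2 j j.2
  rw [lane_rowC j.2, oneC_eq] at e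
  rw [toM, e, Matrix.one_apply]
  by_cases hij : i = j
  · simp [hij]
  · have : ((i : ℕ) == (j : ℕ)) = false := by simpa using fun h' => hij (Fin.ext h')
    simp [hij, this]

/-- one generator, checked against its inverse -/
def okGenC (n : ℕ) (G : List ℕ) (x : ℕ) : Bool :=
  okEntC n (letM G x) && Nat.beq (mulC n (letM G x) (letM G (x ^^^ 1))) (oneC n)

theorem GenSet.of_okC {n m : ℕ} {G : List ℕ} (hn : n ≤ 125) (h1 : okOneC n = true)
    (h2 : okEntC n (oneC n) = true) (h : (List.range (2 * m)).all (okGenC n G) = true) :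
    GenSet n m G := by
  simp only [okGenC, List.all_eq_true, List.mem_range, Bool.and_eq_true, Nat.beq_eq] at h
  refine ⟨hn, okOneC_spec h1, oneC_eq n ▸ okEntC_spec h2, fun x hx => okEntC_spec (h x hx).1,
    fun x hx => ?_⟩
  have := (h x hx).2
  rwa [mulC_eq, oneC_eq] at this

/-- the relators in a list hold -/
def okRelsC (n : ℕ) (G : List ℕ) (m : ℕ) (rels : List (List ℕ)) : Bool :=
  rels.all fun w => (w.all fun x => Nat.blt x (2 * m)) && Nat.beq (evalC n G w) (oneC n)

theorem okRelsC_spec {n m : ℕ} {G : List ℕ} (D : GenSet n m G) {rels : List (List ℕ)}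
    (h : okRelsC n G m rels = true) : ∀ w ∈ rels, wv D.gen w = 1 := by
  intro w hw
  have := List.all_eq_true.1 h w hw
  simp only [Bool.and_eq_true, List.all_eq_true, Nat.blt_eq] at this
  refine D.wv_eq_one this.1 ?_
  rw [← evalC_eq, ← oneC_eq]
  exact this.2

/-- a packed matrix is the value of an invertible matrix -/
def IsVal (n : ℕ) (g : GL (Fin n) (ZMod 5)) (P : ℕ) : Prop :=
  Small n P ∧ (g : Matrix (Fin n) (Fin n) (ZMod 5)) = toM n P

section Val

variable {n : ℕ} {g h : GL (Fin n) (ZMod 5)} {P Q : ℕ}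

theorem IsVal.mul (hn : n ≤ 125) (hg : IsVal n g P) (hh : IsVal n h Q) :
    IsVal n (g * h) (mulC n P Q) := by
  rw [mulC_eq]
  exact ⟨small_mulF hn hg.1 hh.1, by rw [Units.val_mul, hg.2, hh.2, toM_mulF hn hg.1 hh.1]⟩

theorem IsVal.congr (hg : IsVal n g P) (hh : IsVal n h Q) (e : Nat.beq P Q = true) : g = h :=
  Units.ext (by rw [hg.2, hh.2, Nat.eq_of_beq_eq_true e])

theorem IsVal.ne {i j : ℕ} (hi : i < n) (hj : j < n) (hg : IsVal n g P) (hh : IsVal n h Q)
    (e : Nat.beq (lane 16 (n * i + j) P) (lane 16 (n * i + j) Q) = false) : g ≠ h := by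
  intro he
  subst he
  have := congrFun (congrFun (hg.2.symm.trans hh.2) ⟨i, hi⟩) ⟨j, hj⟩
  simp only [toM, ZMod.natCast_eq_natCast_iff', Nat.mod_eq_of_lt (hg.1 _ (idx_lt hi hj)),
    Nat.mod_eq_of_lt (hh.1 _ (idx_lt hi hj))] at this
  rw [this] at e
  simp at e

theorem isVal_wv {m : ℕ} {G : List ℕ} (D : GenSet n m G) {w : List ℕ}
    (hw : (w.all fun x => Nat.blt x (2 * m)) = true) : IsVal n (wv D.gen w) (evalC n G w) := by
  simp only [List.all_eq_true, Nat.blt_eq] at hw
  rw [evalC_eq]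
  exact ⟨D.small_eval w hw, D.coe_wv w hw⟩

theorem isVal_one {m : ℕ} {G : List ℕ} (D : GenSet n m G) : IsVal n 1 (oneC n) := by
  rw [oneC_eq]
  exact ⟨D.smallOne, by rw [Units.val_one, D.one]⟩

/-- the power, by repeated products -/
def powC (n P : ℕ) : ℕ → ℕ
  | 0 => oneC n
  | k + 1 => mulC n P (powC n P k)

theorem IsVal.pow {m : ℕ} {G : List ℕ} (D : GenSet n m G) (hg : IsVal n g P) :
    ∀ k, IsVal n (g ^ k) (powC n P k)
  | 0 => by rw [pow_zero]; exact isVal_one D
  | k + 1 => by rw [pow_succ']; exact hg.mul D.hn (IsVal.pow D hg k)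

end Val

section Vec

/-- the first `k` summands of a vector times a matrix -/
def vmulAuxC (d md v M : ℕ) : ℕ → ℕ
  | 0 => 0
  | k + 1 => vmulAuxC d md v M k + lane 16 k v * ((M >>> (16 * d * k)) % md)

/-- a vector times a matrix -/
def vmulC (d v M : ℕ) : ℕ := redC d (vmulAuxC d (2 ^ (16 * d)) v M d)

theorem vmulC_eq (d v M : ℕ) : vmulC d v M = vmulF d v M := by
  have : ∀ k, vmulAuxC d (2 ^ (16 * d)) v M k = vmulAux d v M k := by
    intro k
    induction k with
    | zero => rfl
    | succ k ih => rw [vmulAuxC, vmulAux, ih]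
  rw [vmulC, this, redC_eq, vmulF]

/-- a well formed packed vector -/
def Vec (d v : ℕ) : Prop := v < 2 ^ (16 * d) ∧ ∀ k < d, lane 16 k v < 5

/-- the check that a number is a packed vector -/
def okVec (d v : ℕ) : Bool :=
  Nat.blt v (2 ^ (16 * d)) && (List.range d).all fun k => Nat.blt (lane 16 k v) 5

theorem okVec_spec {d v : ℕ} (h : okVec d v = true) : Vec d v := by
  simp only [okVec, Bool.and_eq_true, List.all_eq_true, List.mem_range, Nat.blt_eq] at h
  exact h

theorem Vec.ext {d u v : ℕ} (hu : Vec d u) (hv : Vec d v) (h : toV d u = toV d v) : u = v := by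
  rw [← Nat.mod_eq_of_lt hu.1, ← Nat.mod_eq_of_lt hv.1, mod_eq_pk, mod_eq_pk]
  refine pk_congr fun t ht => ?_
  have := congrFun h ⟨t, ht⟩
  simpa only [toV, ZMod.natCast_eq_natCast_iff', Nat.mod_eq_of_lt (hu.2 t ht),
    Nat.mod_eq_of_lt (hv.2 t ht)] using this

theorem Vec.vmul {d v M : ℕ} (hd : d ≤ 125) (hv : Vec d v) (hM : Small d M) :
    Vec d (vmulC d v M) ∧ toV d (vmulC d v M) = Matrix.vecMul (toV d v) (toM d M) := by
  rw [vmulC_eq]
  obtain ⟨h1, h2⟩ := toV_vmulF hd hv.2 hM
  refine ⟨⟨?_, h2⟩, h1⟩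
  rw [vmulF, vmulAux_eq, red_pk]
  · exact pk_lt _ _ fun t _ => lt_trans (Nat.mod_lt _ (by norm_num)) (by norm_num)
  · intro j hj
    calc _ ≤ ∑ _s ∈ Finset.range d, 16 := by
          refine Finset.sum_le_sum fun s hs => ?_
          have h1 := hv.2 s (Finset.mem_range.1 hs)
          have h2 := hM _ (idx_lt (Finset.mem_range.1 hs) hj)
          calc _ ≤ 4 * 4 := Nat.mul_le_mul (by omega) (by omega)
            _ = 16 := rfl
      _ ≤ 2000 := by simp; omega

end Vec

end CfsgLib.Spor.Ly.Model
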