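import Cfsg.Agent.Lib.Spor.Ly.Model.Fast
import Cfsg.Agent.Lib.Spor.Ly.Model.Data
import Cfsg.Agent.Lib.Spor.Ly.RelsData

/-!
Some of the expanded relators hold in the model (part 0).
-/

set_option autoImplicit false

namespace CfsgLib.Spor.Ly.Model

theorem ok_rel0 : okRelsC 111 G111 5 ((RAll.drop 0).take 18) = true := by
  decide +kernel

end CfsgLib.Spor.Ly.Model
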