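import Cfsg.Agent.Lib.Spor.Ly.Rels
import Cfsg.Agent.Lib.Spor.Ly.Model.Gens
import Cfsg.Agent.Lib.Spor.Ly.Model.Rel0
import Cfsg.Agent.Lib.Spor.Ly.Model.Rel1
import Cfsg.Agent.Lib.Spor.Ly.Model.Rel2
import Cfsg.Agent.Lib.Spor.Ly.Model.Rel3
import Cfsg.Agent.Lib.Spor.Ly.Model.Rel4

/-!
The representation of the presented Lyons group on 111 dimensions over the field of five elements.
-/

set_option autoImplicit false

namespace CfsgLib.Spor.Ly

open CfsgLib.DCE CfsgLib.Spor.Ly.Five CfsgLib.Spor.Ly.Model Cfsg.Spor CfsgLib.KnownB.LyMult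

theorem rall_split : RAll = (RAll.drop 0).take 18 ++ ((RAll.drop 18).take 18 ++
    ((RAll.drop 36).take 16 ++ ((RAll.drop 52).take 17 ++ (RAll.drop 69).take 17))) := by
  decide +kernel

theorem rall_model : ∀ w ∈ RAll, wv D111.gen w = 1 := by
  intro w hw
  rw [rall_split] at hw
  simp only [List.mem_append] at hw
  rcases hw with h | h | h | h | h
  · exact okRelsC_spec D111 ok_rel0 w h
  · exact okRelsC_spec D111 ok_rel1 w h
  · exact okRelsC_spec D111 ok_rel2 w h
  · exact okRelsC_spec D111 ok_rel3 w h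
  · exact okRelsC_spec D111 ok_rel4 w h

/-- the matrices of all generators -/
noncomputable def genVal : Ly.Gen → GL (Fin 111) (ZMod 5) :=
  val (D111.gen 0) (D111.gen 1) (D111.gen 2) (D111.gen 3) (D111.gen 4)

theorem lift_genVal (r : FreeGroup Ly.Gen) :
    FreeGroup.lift D111.gen (FreeGroup.lift fval r) = FreeGroup.lift genVal r := by
  rw [← MonoidHom.comp_apply]
  refine DFunLike.congr_fun (FreeGroup.ext_hom _ _ fun g => ?_) r
  rw [MonoidHom.comp_apply, FreeGroup.lift_apply_of, FreeGroup.lift_apply_of, fval, map_val]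
  simp only [FreeGroup.lift_apply_of]
  rfl

theorem extra_model : ∀ r ∈ Ly.extra, FreeGroup.lift genVal r = 1 := by
  intro r hr
  obtain ⟨i, hi, rfl⟩ := List.getElem_of_mem hr
  have hlen : Ly.extra.length = RAll.length := by decide +kernel
  have hi' : i < RAll.length := hlen ▸ hi
  have hm : (Ly.extra[i], RAll[i]'hi') ∈ Ly.extra.zip RAll :=
    List.mem_iff_getElem.2 ⟨i, by rw [List.length_zip]; omega, List.getElem_zip⟩
  have h := of_decide_eq_true (List.all_eq_true.1 expand_ok _ hm)
  have := congrArg (FreeGroup.lift D111.gen) h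
  simp only at this
  rw [lift_genVal, map_wv] at this
  simp only [FreeGroup.lift_apply_of] at this
  exact this.trans (rall_model _ (List.getElem_mem _))

/-- the 111-dimensional representation -/
noncomputable def rep111 : GLy →* GL (Fin 111) (ZMod 5) :=
  PresentedGroup.toGroup (f := genVal) (by
    rintro r (⟨x, hx, -⟩ | hr)
    · simp [coxNodes, Ly.edges] at hx
    · exact extra_model r hr)

theorem rep111_gen (g : Ly.Gen) : rep111 (gn g) = genVal g := PresentedGroup.toGroup.of _

theorem rep111_lgen (k : Fin 5) : rep111 (lgen k) = D111.gen k := by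
  fin_cases k <;> exact rep111_gen _

theorem rep111_wv (w : List ℕ) : rep111 (wv lgen w) = wv D111.gen w := by
  rw [map_wv]
  simp only [rep111_lgen]

end CfsgLib.Spor.Ly
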